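import Groth.Agent.ASBun.K824.Neg
import Groth.Agent.Flat2H.ThickFibre
import Groth.Agent.CohqA.HBiprod
import Groth.Agent.Vancyc.H588.P1

/-!
# Cohomology of twists on a form of projective space

* `subsingleton_HH_pow`: `H^p(M^r) = 0` iff `H^p(M) = 0`, `r > 0`;
* `key`: `H^i(X, E ⊗ L ⊗ W)` vanishes iff `H^i(P^d_K, E'(c + j))` does, where `L` has type `O(c)`, `W` has type
  `O(j)^r`, and `E'` is the module on `P^d_K` given by `E`;
* `exists_sigma_zero`: finite locally free modules on `P^0_K` are sums of invertible modules.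
-/

set_option autoImplicit false
set_option linter.unusedSectionVars false
universe v w u
open CategoryTheory CategoryTheory.Limits AlgebraicGeometry MonoidalCategory
open scoped ZeroObject

namespace K824.HCrit

open Groth.Agent Groth.Agent.ASBun.K791.Tens Groth.Agent.ASBun.K791.Dual

section pow

variable {X : Scheme.{u}}

open CohqA.HBiprod in
theorem subsingleton_of_retract {A B : X.Modules} (s : A ⟶ B) (q : B ⟶ A) (h : s ≫ q = 𝟙 A) (p : ℕ)
    (hB : Subsingleton (Coh.HH X B p)) : Subsingleton (Coh.HH X A p) := by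
  have hB' : Subsingleton ((HFun X p).obj B) := hB
  have hB'' : IsZero ((HFun X p).obj B) := AddCommGrpCat.isZero_of_subsingleton _
  have h0 : IsZero ((HFun X p).obj A) := by
    rw [IsZero.iff_id_eq_zero, ← (HFun X p).map_id, ← h, Functor.map_comp, hB''.eq_zero_of_tgt ((HFun X p).map s),
      zero_comp]
  exact AddCommGrpCat.subsingleton_of_isZero h0

attribute [local instance] Abelian.hasFiniteBiproducts in
theorem subsingleton_HH_sigma {r : ℕ} (M : Fin r → X.Modules) (p : ℕ)
    (h : ∀ i, Subsingleton (Coh.HH X (M i) p)) : Subsingleton (Coh.HH X (∐ M) p) :=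
  Gaga.H883.Serre.HH_congr (biproduct.isoCoproduct M) p (CohqA.HBiprod.subsingleton_HH_biproduct M p h)

theorem subsingleton_HH_pow (M : X.Modules) {r : ℕ} (hr : 0 < r) (p : ℕ) :
    Subsingleton (Coh.HH X (BrSev.pow M r) p) ↔ Subsingleton (Coh.HH X M p) := by
  constructor
  · exact subsingleton_of_retract (Sigma.ι (fun _ : Fin r => M) ⟨0, hr⟩) (Sigma.desc fun _ => 𝟙 M) (by simp) p
  · intro h
    exact subsingleton_HH_sigma _ p fun _ => h

theorem HH_congr_iff {M N : X.Modules} (e : M ≅ N) (p : ℕ) :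
    Subsingleton (Coh.HH X M p) ↔ Subsingleton (Coh.HH X N p) :=
  ⟨Gaga.H883.Serre.HH_congr e p, Gaga.H883.Serre.HH_congr e.symm p⟩

end pow

section key

variable {k : Type u} [Field k] {X : Scheme.{u}} {f : X ⟶ Spec (CommRingCat.of k)} [IsProper f]
  {K : Type u} [Field K] [Algebra k K] {d : ℕ} (e : BrSev.Splitting f K d)

/-- Vanishing of cohomology and extension of the base field. -/
theorem HH_bc_iff {M : X.Modules} (hM : Coh.IsQCoh M) (i : ℕ) :
    Subsingleton (Coh.HH X M i) ↔ Subsingleton (Coh.HH (BrSev.bc f K) (BrSev.bcMod f K M) i) := by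
  let _ : X.Over (Spec (CommRingCat.of k)) := ⟨f⟩
  have h1 : IsProper (X ↘ Spec (CommRingCat.of k)) := inferInstanceAs (IsProper f)
  exact (K425.FieldBC.subsingleton_HH_bc_iff k X K M hM i).symm

theorem pullInv_twist (c : ℤ) : Nonempty ((Scheme.Modules.pullback e.iso.inv).obj (e.twist c) ≅
    Twist.twistProjSpace d K c) :=
  ⟨Conic.roundTrip e.iso.symm (Twist.twistProjSpace d K c)⟩

theorem key {E L W : X.Modules} (hE : FlatMod.IsFinLocFree E) (hL : FlatMod.IsFinLocFree L)
    (hW : FlatMod.IsFinLocFree W) {c j : ℤ} {r : ℕ} (hr : 0 < r) (hLt : BrSev.IsTwPow e c 1 L)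
    (hWt : BrSev.IsTwPow e j r W) (i : ℕ) :
    Subsingleton (Coh.HH X (CohB1.tensorMod (CohB1.tensorMod E L) W) i) ↔
      Subsingleton (Coh.HH (CohB1.ProjSpace d K) (CohB1.tensorMod
        ((Scheme.Modules.pullback e.iso.inv).obj (BrSev.bcMod f K E)) (Twist.twistProjSpace d K (c + j))) i) := by
  obtain ⟨φ⟩ := isTwPow_tensor e hLt hWt
  rw [one_mul] at φ
  have hflf : FlatMod.IsFinLocFree (CohB1.tensorMod E (CohB1.tensorMod L W)) :=
    Sga67.LocBasis.isFinLocFree_tensorMod hE (Sga67.LocBasis.isFinLocFree_tensorMod hL hW)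
  have hq : Coh.IsQCoh (CohB1.tensorMod E (CohB1.tensorMod L W)) := (K790.Isotyp.isCoh_of_isFinLocFree hflf).1
  have i1 : BrSev.bcMod f K (CohB1.tensorMod E (CohB1.tensorMod L W)) ≅
      BrSev.pow (CohB1.tensorMod (BrSev.bcMod f K E) (e.twist (c + j))) r :=
    pullTens _ _ _ ≪≫ tensMap (Iso.refl _) φ ≪≫ tensCoprod _ _
  obtain ⟨t⟩ := pullInv_twist e (c + j)
  rw [HH_congr_iff (tensAssoc E L W), HH_bc_iff (f := f) (K := K) hq i, HH_congr_iff i1, subsingleton_HH_pow _ hr,
    ← HH_congr_iff ((pullTens e.iso.inv (BrSev.bcMod f K E) (e.twist (c + j))) ≪≫ tensMap (Iso.refl _) t)]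
  refine (Flat2H.ThickFibre.subsingleton_HH_pullback_iff e.iso.inv _ ?_ i).symm
  refine (K790.Isotyp.isCoh_of_isFinLocFree (Sga67.LocBasis.isFinLocFree_tensorMod
    (Krr.H482.PullLambda.isFinLocFree_pullback _ hE) ?_)).1
  exact K790.Isotyp.isFinLocFree_of_isInvertible (isInvertible_twist e _)

end key

section zero

variable {K : Type u} [Field K]

/-- A finite locally free module on a one-point scheme is a finite sum of invertible modules. -/
theorem exists_sigma_of_subsingleton {Z : Scheme.{u}} [Subsingleton Z] {F : Z.Modules}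
    (hF : FlatMod.IsFinLocFree F) (z : Z) :
    ∃ (r : ℕ) (Ls : Fin r → Z.Modules), (∀ i, PicF.IsInvertible (Ls i)) ∧ Nonempty (F ≅ ∐ Ls) := by
  obtain ⟨U, n, hz, ⟨φ⟩⟩ := hF z
  have hU : U = ⊤ := by
    ext x
    simp [Subsingleton.elim x z, hz]
  subst hU
  have : IsIso (Scheme.Opens.ι (⊤ : Z.Opens)) := by
    rw [← Scheme.topIso_hom]
    infer_instance
  let ι := Scheme.Opens.ι (⊤ : Z.Opens)
  have e1 : F ≅ (Scheme.Modules.pullback (inv ι)).obj ((Scheme.Modules.pullback ι).obj F) :=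
    (Conic.roundTrip (asIso ι).symm F).symm
  refine ⟨n, fun _ => (Scheme.Modules.pullback (inv ι)).obj (Coh.structureModule _), fun _ => ?_, ⟨?_⟩⟩
  · exact Fdesc.LocGen.isInvertible_pullback _ (Fdesc.LocGen.isInvertible_structureModule)
  · exact e1 ≪≫ (Scheme.Modules.pullback (inv ι)).mapIso ((Scheme.Modules.restrictFunctorIsoPullback ι).symm.app F ≪≫ φ)
      ≪≫ Conic.pullSigma _ _

end zero

section main

variable {k : Type u} [Field k] {X : Scheme.{u}} {f : X ⟶ Spec (CommRingCat.of k)} [IsProper f]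
  {K : Type u} [Field K] [Algebra k K] {d : ℕ} (e : BrSev.Splitting f K d)

include e in
theorem exists_sigma_zero (hd : d = 0) {E : X.Modules} (hE : FlatMod.IsFinLocFree E) :
    ∃ (r : ℕ) (Ls : Fin r → (BrSev.bc f K).Modules), (∀ i, PicF.IsInvertible (Ls i)) ∧
      Nonempty (BrSev.bcMod f K E ≅ ∐ Ls) := by
  subst hd
  obtain ⟨h1, ⟨z⟩⟩ := Vancyc.H588.P1.subsingleton_P0 K
  have : Subsingleton (BrSev.bc f K) := (Scheme.homeoOfIso e.iso).injective.subsingleton
  exact exists_sigma_of_subsingleton (Krr.H482.PullLambda.isFinLocFree_pullback _ hE) (e.iso.inv z)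

/-- An absolutely split module: type of the summands. -/
theorem exists_twist {M : (BrSev.bc f K).Modules} {s : ℕ} {Ls : Fin s → (BrSev.bc f K).Modules}
    (hLs : ∀ i, PicF.IsInvertible (Ls i)) (i : M ≅ ∐ Ls) :
    ∃ a : Fin s → ℤ, Nonempty ((Scheme.Modules.pullback e.iso.inv).obj M ≅
      ∐ fun j => Twist.twistProjSpace d K (a j)) := by
  choose a ha using fun i => S1697.result K d ((Scheme.Modules.pullback e.iso.inv).obj (Ls i))
    (Fdesc.LocGen.isInvertible_pullback _ (hLs i))
  exact ⟨a, ⟨(Scheme.Modules.pullback e.iso.inv).mapIso i ≪≫ Conic.pullSigma _ _ ≪≫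
    Sigma.mapIso fun j => (ha j).some⟩⟩

end main

end K824.HCrit
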